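import Mathlib
import Cfsg.Agent.Lib.Comput.NetModel

/-! generated by tools/cgt -/

set_option autoImplicit false
set_option maxRecDepth 100000
set_option Elab.async false

namespace CfsgLib.HSR3.R

open CfsgLib.Comput

noncomputable def n0 : Net :=
  Net.cons 1 0x41410
  (Net.cons 2 0x21010
  (Net.cons 4 0x10308
  (Net.cons 8 0x8a
  (Net.cons 16 0x2b
  (Net.cons 8 0x18
  (Net.cons 4 0x10809
  (Net.cons 2 0x13223
  (Net.cons 1 0x155445
  (Net.nil)))))))))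

noncomputable def n2 : Net :=
  Net.cons 1 0x141110
  (Net.cons 2 0x1130
  (Net.cons 4 0x10a08
  (Net.cons 8 0x60
  (Net.cons 16 0x2b
  (Net.cons 8 0x2a
  (Net.cons 4 0x20306
  (Net.cons 2 0x30112
  (Net.cons 1 0x111444
  (Net.nil)))))))))

noncomputable def n4 : Net :=
  Net.cons 1 0x140404
  (Net.cons 2 0x2302
  (Net.cons 4 0x20d00
  (Net.cons 8 0xc3
  (Net.cons 16 0xb
  (Net.cons 8 0x33
  (Net.cons 4 0x3000c
  (Net.cons 2 0x1210
  (Net.cons 1 0x111150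
  (Net.nil)))))))))

noncomputable def n6 : Net :=
  Net.cons 1 0x4500
  (Net.cons 2 0x10203
  (Net.cons 4 0xc00
  (Net.cons 8 0x74
  (Net.cons 16 0x36
  (Net.cons 8 0x2e
  (Net.cons 4 0x1090b
  (Net.cons 2 0x2001
  (Net.cons 1 0x105044
  (Net.nil)))))))))

noncomputable def n8 : Net :=
  Net.cons 1 0x10
  (Net.cons 2 0x20112
  (Net.cons 4 0x900
  (Net.cons 8 0xa3
  (Net.cons 16 0x33
  (Net.cons 8 0x7
  (Net.cons 4 0x20b02
  (Net.cons 2 0x23102
  (Net.cons 1 0x514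
  (Net.nil)))))))))

noncomputable def n10 : Net :=
  Net.cons 2 0x31113
  (Net.cons 4 0x10404
  (Net.cons 8 0x9c
  (Net.cons 16 0x3f
  (Net.cons 8 0x18
  (Net.cons 4 0x20205
  (Net.cons 2 0x203
  (Net.cons 1 0x115540
  (Net.nil))))))))

noncomputable def n12 : Net :=
  Net.cons 1 0x150040
  (Net.cons 2 0x1310
  (Net.cons 4 0x2090c
  (Net.cons 8 0xad
  (Net.cons 16 0x3d
  (Net.cons 8 0x19
  (Net.cons 4 0x30c04
  (Net.cons 2 0x3310
  (Net.cons 1 0x11050
  (Net.nil)))))))))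

noncomputable def n14 : Net :=
  Net.cons 1 0x14040
  (Net.cons 2 0x10002
  (Net.cons 4 0x20804
  (Net.cons 8 0x8
  (Net.cons 16 0xe
  (Net.cons 8 0x8
  (Net.cons 4 0x30804
  (Net.cons 2 0x11022
  (Net.cons 1 0x14540
  (Net.nil)))))))))

noncomputable def n15 : Net :=
  Net.cons 1 0x15110
  (Net.cons 2 0x13012
  (Net.cons 4 0x30600
  (Net.cons 8 0xac
  (Net.cons 16 0x3e
  (Net.cons 8 0xe
  (Net.cons 4 0xd00
  (Net.cons 2 0x10312
  (Net.cons 1 0x410
  (Net.nil)))))))))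

noncomputable def n17 : Net :=
  Net.cons 1 0x110100
  (Net.cons 2 0x33302
  (Net.cons 4 0xa00
  (Net.cons 8 0xe4
  (Net.cons 16 0x26
  (Net.cons 8 0x6
  (Net.cons 4 0x30902
  (Net.cons 2 0x33302
  (Net.cons 1 0x110100
  (Net.nil)))))))))

noncomputable def n18 : Net :=
  Net.cons 1 0x110100
  (Net.cons 2 0x20100
  (Net.cons 4 0x4
  (Net.cons 8 0x93
  (Net.cons 16 0x37
  (Net.cons 8 0x1b
  (Net.cons 4 0xc0c
  (Net.cons 2 0x20100
  (Net.cons 1 0x110100
  (Net.nil)))))))))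

noncomputable def n19 : Net :=
  Net.cons 1 0x110100
  (Net.cons 2 0x22
  (Net.cons 4 0x10c00
  (Net.cons 8 0xc9
  (Net.cons 16 0x29
  (Net.cons 8 0xb
  (Net.cons 4 0x10c00
  (Net.cons 2 0x11022
  (Net.cons 1 0x110100
  (Net.nil)))))))))

noncomputable def W : List Net := [n0, n0.rev, n2, n2.rev, n4, n4.rev, n6, n6.rev, n8, n8.rev, n10, n10.rev, n12, n12.rev, n14, n15, n15.rev, n17, n18, n19]

theorem W_ok : allL (Net.ok 22) W = true := by decide +kernel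

end CfsgLib.HSR3.R
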