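import Mathlib
import Cfsg.Agent.Lib.Comput.Check3
import Cfsg.Agent.Lib.HSR3.R.Data

/-! generated by tools/cgt -/

set_option autoImplicit false
set_option maxRecDepth 100000
set_option Elab.async false

namespace CfsgLib.HSR3.R

open CfsgLib.Comput

def R4_0 : RepC := ⟨18, 1, [],
  []⟩
def R4_1 : RepC := ⟨19, 1, [],
  []⟩
def R4_2 : RepC := ⟨15, 1, [],
  []⟩
def R4_3 : RepC := ⟨20, 1, [],
  []⟩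
def R4_4 : RepC := ⟨0x1312, 1, [],
  []⟩
def R4_5 : RepC := ⟨0xf12, 1, [],
  []⟩
def R4_6 : RepC := ⟨0x1412, 1, [],
  []⟩
def R4_7 : RepC := ⟨0xf13, 1, [],
  []⟩
def R4_8 : RepC := ⟨0x1413, 1, [],
  []⟩
def R4_9 : RepC := ⟨0x140f, 1, [],
  []⟩
def R4_10 : RepC := ⟨0xf1312, 1, [],
  []⟩
def R4_11 : RepC := ⟨0x141312, 1, [],
  []⟩
def R4_12 : RepC := ⟨0x140f12, 1, [],
  []⟩
def R4_13 : RepC := ⟨0x140f13, 1, [],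
  []⟩
def R4_14 : RepC := ⟨0x140f1312, 1, [],
  []⟩
def S4_0 : GenC := ⟨18, [],
  [(0, 0, 0, 1, 0), (0, 1, 0, 0, 0), (0, 2, 0, 5, 0), (0, 3, 0, 6, 0), (0, 4, 0, 7, 0), (0, 5, 0, 2, 0), (0, 6, 0, 3, 0), (0, 7, 0, 4, 0), (0, 8, 0, 11, 0), (0, 9, 0, 12, 0), (0, 10, 0, 13, 0), (0, 11, 0, 8, 0), (0, 12, 0, 9, 0), (0, 13, 0, 10, 0), (0, 14, 0, 15, 0), (0, 15, 0, 14, 0)], 0⟩
def S4_1 : GenC := ⟨19, [],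
  [(0, 0, 0, 2, 0), (0, 1, 0, 5, 0), (0, 2, 0, 0, 0), (0, 3, 0, 8, 0), (0, 4, 0, 9, 0), (0, 5, 0, 1, 0), (0, 6, 0, 11, 0), (0, 7, 0, 12, 0), (0, 8, 0, 3, 0), (0, 9, 0, 4, 0), (0, 10, 0, 14, 0), (0, 11, 0, 6, 0), (0, 12, 0, 7, 0), (0, 13, 0, 15, 0), (0, 14, 0, 10, 0), (0, 15, 0, 13, 0)], 0⟩
def S4_2 : GenC := ⟨15, [],
  [(0, 0, 0, 3, 0), (0, 1, 0, 6, 0), (0, 2, 0, 8, 0), (0, 3, 0, 0, 0), (0, 4, 0, 10, 0), (0, 5, 0, 11, 0), (0, 6, 0, 1, 0), (0, 7, 0, 13, 0), (0, 8, 0, 2, 0), (0, 9, 0, 14, 0), (0, 10, 0, 4, 0), (0, 11, 0, 5, 0), (0, 12, 0, 15, 0), (0, 13, 0, 7, 0), (0, 14, 0, 9, 0), (0, 15, 0, 12, 0)], 0⟩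
def S4_3 : GenC := ⟨20, [],
  [(0, 0, 0, 4, 0), (0, 1, 0, 7, 0), (0, 2, 0, 9, 0), (0, 3, 0, 10, 0), (0, 4, 0, 0, 0), (0, 5, 0, 12, 0), (0, 6, 0, 13, 0), (0, 7, 0, 1, 0), (0, 8, 0, 14, 0), (0, 9, 0, 2, 0), (0, 10, 0, 3, 0), (0, 11, 0, 15, 0), (0, 12, 0, 5, 0), (0, 13, 0, 6, 0), (0, 14, 0, 8, 0), (0, 15, 0, 11, 0)], 0⟩
def L4 : Level := ⟨0x0, 0xe4000, [], 1, 3, 0, 16, [R4_0, R4_1, R4_2, R4_3, R4_4, R4_5, R4_6, R4_7, R4_8, R4_9, R4_10, R4_11, R4_12, R4_13, R4_14], [S4_0, S4_1, S4_2, S4_3]⟩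
def X4 : Ext := []

def R3_0 : RepC := ⟨13, 1, [(15, 0xf13), (20, 18), (0xf12, 0x140f1312), (0xf13, 19)],
  [(7, 1, [1, 2, 3, 4])]⟩
def R3_1 : RepC := ⟨14, 1, [(20, 0x1412), (19, 0xf13), (15, 19), (18, 20)],
  [(7, 1, [1, 2, 3, 4])]⟩
def S3_0 : GenC := ⟨14, [(19, 15)],
  [(0, 0, 0, 2, 0), (0, 1, 0, 0, 0), (0, 2, 0, 1, 0)], 0⟩
def L3 : Level := ⟨0xe4000, 0xff000, [18, 19, 15, 20], 16, 4, 0, 3, [R3_0, R3_1], [S3_0]⟩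
def X3 : Ext := [(12, 14, 0), (15, 0, 0xd1412), (16, 16, 0)]

def R2_0 : RepC := ⟨0x90f0a, 3, [(19, 19), (20, 0x140f), (18, 0x1312), (15, 15)],
  [(15, 1, [1, 2, 3, 4])]⟩
def R2_1 : RepC := ⟨9, 16, [(0xe141312, 0xd0f12)],
  [(6, 2, [1])]⟩
def S2_0 : GenC := ⟨10, [(0xd140f, 0xe1413)],
  [(0, 0, 20, 2, 20), (0, 2, 0, 0, 0), (20, 2, 0, 2, 20), (13, 2, 0xf0d, 2, 0xe0f13), (16, 2, 19, 2, 0xe0f12), (0x1312, 2, 17, 2, 0x140f12), (19, 2, 14, 1, 13), (0, 1, 14, 2, 0xe13)], 2⟩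
def L2 : Level := ⟨0xff000, 0xfff00, [14, 18, 19, 15, 20], 48, 2, 0, 20, [R2_0, R2_1], [S2_0]⟩
def X2 : Ext := [(8, 10, 0), (10, 0, 0x12090d0f13), (11, 11, 0)]

def R1_0 : RepC := ⟨6, 20, [(0xd14, 0xf0a0d140f1312), (13, 0xc0d140f12), (0xe0f13, 0xb12)],
  [(19, 3, [1, 2, 3]), (18, 2, [1])]⟩
def S1_0 : GenC := ⟨6, [(0x1109, 0xe1312), (0x9130a, 0xf12), (0xa0e, 14)],
  [(0, 0, 0, 1, 0), (0xc0f0a, 1, 0, 0, 0x100a0d1413), (0, 1, 0x110a, 1, 0x100a140f), (9, 1, 0x9130a, 1, 0xf0a0d140f12)], 2⟩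
def L1 : Level := ⟨0xfff00, 0xffff0, [10, 14, 18, 19, 15, 20], 960, 1, 0, 21, [R1_0], [S1_0]⟩
def X1 : Ext := [(4, 6, 0), (6, 0, 0x130a061412), (7, 7, 0)]

def R0_0 : RepC := ⟨0x302, 21, [(0x11090f, 0x60a0d0f12), (0xe0f12, 0x13081312), (0x9130a0f, 0x505130a0f1312), (0xb0e140f, 0x14050c1312)],
  [(20, 3, [1, 2, 3, 4]), (8, 3, [1, 2, 3]), (2, 2, [1])]⟩
def S0_0 : GenC := ⟨2, [(0xc06090d, 0x80d0a0d0f12), (0x70611090d14, 0xb05090d12)],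
  [(0, 0, 0x1405, 1, 0xf05090f0a0d0f12), (0xa06, 1, 0, 0, 0x9070a0f12), (0, 1, 6, 1, 0x606130a0d1412)], 5⟩
def L0 : Level := ⟨0xffff0, 0xfffff, [6, 10, 14, 18, 19, 15, 20], 20160, 0, 0, 22, [R0_0], [S0_0]⟩
def X0 : Ext := [(0, 2, 0), (2, 0, 0x7020a05140f), (3, 3, 0)]

def top : List ℕ := [1, 3]
def gs : List ℕ := [2, 6, 10, 14, 18, 19, 15, 20]
def XD : Ext := [(1, 1, 0), (3, 3, 0), (4, 0, 0x203010303010401), (5, 5, 0), (6, 0, 0x203020203010401), (7, 7, 0), (8, 0, 0x50806060808), (9, 9, 0), (10, 0, 0x808060806070706), (11, 11, 0), (12, 0, 0xa0b0b090c0c), (13, 13, 0), (14, 0, 0xa0c0a0a0c0909), (15, 0, 0xa0b0b0b090b0b09), (16, 16, 0), (17, 0, 0x100e), (18, 0, 0xe0f0d0f), (19, 0, 0xd100d)]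

/-- all the equations of the certificate -/
structure Eqs {G : Type*} [Group G] (g : ℕ → G) : Prop where
  l4 : AllHold g L4.eqns
  x4 : AllHold g X4.eqns
  l3 : AllHold g L3.eqns
  x3 : AllHold g X3.eqns
  l2 : AllHold g L2.eqns
  x2 : AllHold g X2.eqns
  l1 : AllHold g L1.eqns
  x1 : AllHold g X1.eqns
  l0 : AllHold g L0.eqns
  x0 : AllHold g X0.eqns
  xd : AllHold g XD.eqns

end CfsgLib.HSR3.R
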